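import Cfsg.Agent.H374.Ore.Sl3

/-!
# `SL_3(2)`, `SL_3(3)`: one class of irreducible elements up to inversion (S4173)

* `FC F` : there is `x₀ ∈ SL_3(F)` with irreducible characteristic polynomial such that every `L U` is `X Y` with
  characteristic polynomials of `X`, `Y` equal to that of `x₀` or `x₀⁻¹`;
* `fc_small` : `FC F` for `|F| ∈ {2, 3}`.
-/

set_option autoImplicit false
set_option linter.unusedSectionVars false

namespace Cfsg.Agent.H928.TC.Sl3

open Matrix Polynomial Cfsg.Agent.H162.GaussSL Cfsg.Agent.H374.Ore.Sl3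

/-- one class up to inversion -/
def FC (F : Type*) [Field F] : Prop :=
  ∃ x₀ : SpecialLinearGroup (Fin 3) F, Irreducible x₀.1.charpoly ∧ ∀ L ∈ LT 3 F, ∀ U ∈ UT 3 F,
    ∃ X Y : SpecialLinearGroup (Fin 3) F, L * U = X * Y ∧
      (X.1.charpoly = x₀.1.charpoly ∨ X.1.charpoly = (x₀⁻¹).1.charpoly) ∧
      (Y.1.charpoly = x₀.1.charpoly ∨ Y.1.charpoly = (x₀⁻¹).1.charpoly)

/-- the type of the first matrix -/
def ty (p m s r : ℕ) (e : ℕ → ℕ) : Bool :=
  ((tn e % p == s % p) && (sn m e % p == r % p)) || ((tn e % p == r % p) && (sn m e % p == s % p))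

/-- the table -/
def T3F : ℕ :=
  0xe23a9657765811f3256c24dd1b405753101d5544c4877d4244b90b0b0b5cbaa0cc02847ddabaae70715ba6eaee245f71f412343ce0b499e007d5ae1e9892dc3cd88d76aef54dbffa2a16135eb77410c4eae700df9d87aa90896f2fdbfdd5d5026d4a90a1d8d0b3fc6b77fec128040deedff90446d84e3b0f0dbd95613efc6d16f990a595e6f84caef7e0d710ec561d0dbc599c5a0f1147cab06b57eab69ec9fa4a397786d536728eb018c46bb3c13604650b55f0fccd3b1a7f40ce837a26d3e5a584a0cacbcaf5b6d3184d03569381a1cb238ee8113d0453c4d13851e38025bd1fccfb221406bccd4aef23e0d912a1279333d4293ea1b213a537487fa92cae543ef64bf0b0d181df80ec9b0e0766533a7db9b0d01db5e1acb074e562102c2348207815834fc08e81ff1dc16abf8dd89567d919a8898733eb8d396962b91b212773342028c5aa8faff4896baf017ca049aec7dc5fa59cac7c823bc7c73fa269ff7e5b31fd49297e07a0c29c1abd7aa1400a2e4f867d5b23411dcf0ebdc97ef704048f6e230e684a699aa66ae3b976c5ebc81b214775f521a3718425828c9ff39d1b316a37e75258813afeeb03367257090786582cc9cd786d528d3b2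70fd4da947e1dfd555348f8b4e2dfe0370cc7095375eccc2226d7964217c97dbcf0b1857de3c87f8632bd43d361252bfcf3fee197709f776fb1514797c702580247a6059af63a92e827484a307181f8fe9029becdf2c4d037be400ed9f7ee04982559ae18aa314cbb5e55a82834ecd64a76b3d2a3fee4a9944c095496a7ece0565874a178bb5ac30157feb1a8b7458e1e7755df4c4ea068387aefb19e2bd602eff6e81ed1027d361d98bd9da8bd63b827f19a1a1cb0750a8156ec2fb73ea3de2e3b0efe52cca2cfa446f71cf7504b784229daa91c06c2a04307faa0af262ee56a3e26a23b68a17ec5fa5a12de99181694ecacd873ef22db4016a22352cad7250ed516ffaca328d6d629ab8a632067fb7400e37f3d5b0bf5ebe92d10442d1573b323bc306fba8c82d4c8680d2a18de68a77cc1c5bb1fce35cdb33edd12f950e6f3d1a1fa6be4b5525eff04bf43f789002c4ef3839099ffcfbb180bf83ad712411daf89e66501fce2fd942f9c403c349144005325d25c09b2ff0542ae99e503ae3d2f8fb18731e44794fd50428567986884f3f21f3bae962c9edbe855e9d2a6a37546b6a591e5393f8bce0c79e11ff197e805a732323c1e1ab07479d26e5a20e679c7211464fc0c4c035fc5d5d98981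be6de27ea97e31203a2c3de6b0e09059834150b16bab2c22914e9f0cf1408caed5aa1760f91a3b5bec835316cda3bc10693d02dd499a6efd18c38560cca4005c245e2539af6a4fd245ec54a9549a05719da1f66fb14ff373d2566c90c8399fec61aee472492f05ff239a0b38030a90ca6c62d572030c5a36c82e4566b6715e660f12c3943d95373ada17d4f243b89fe5f4965f60cacb1ec45870e9bc97fe8afbe9cffb522f9cf64e6343727e31b2e31a3f2f950d927b3f38afba49a3c16799cd0c80be363fb1cea9732da07fcff92222f55ea9e00adf41eb387642e26e92823296a9222eeddd4fc1b3a3dbcabf6c544fc41ccf58c2639e2d32a411d2b96ea4121d31ded27511d051842c82975bd28a27bf9d82b22b6800e25c9582ffa9508d77c66e3d8617fe719bc95cc055d55e5db6c826701300294f2e00c9d9a777255b9cc0566b14706bb84166a4574e37289f35799062b772d1139a5b1f13fb4f30485c13f5c06e1ba808ee0a19bf27c4dbe6bb6c1348275ba519b43252bc8dec6d5b0f3c16e00dc17d1740a175e09ab3fac2091c9ecccc70d7134a5b8630465a973cf7824452c6b6bd4bb83a1bd459c441b5ead642afc29f1dd7e8436f3d28da37182cdf2a8122175ce013ab26316f14912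519ecf321611a975c504afc4adfb4a81cd4976f87a3c0cc05243f67fdbec334978dac23df798be29f7043e68f1b516a2fec0765d862f65cddf3d0f1cdf2d702bbc64427e8ce5b0149e871df949827e1eae1d57d012aeb2c8369b168de33bbf9f6d02e6c3dc12a6ce40cb3e0c5f31ed3e7a5bfe8c9556e5afaa15e30b776fbe9053e1acf04eb70a577b1edb1f95b4f443813799c3aa584c7a9822614cabbe9b5675d0729690f89812151c52911926fb38f0348707ea072083b6d772c646b518b517b5ea448c9f884f4e44ce378d121ac00d7363f004ab3226d9b39413b6b39c3ff573e14be4d9ea7ed6efc14b20a4997177d284ace4a72294d43ed31c851c7492c105ec047b12d520cc29885cf08c0e61761f65fcbca4d20462897166fb031a74085c074ad25e4e493fffbd7e8d5f834b1d40a5475c17ccce74e5352684c38b8d37c1a21505147ea6d5cbe57aff86dc49944b738f8445483724488073efe8d91bc5a8a63c13c00844b8e5f86faae832543de6a781b0aa011137b2725a478ee62fdef56c682d682ee5e5cea8f59708b186844fff0048179f5a52b79ef7d241f8431cd1dd8a49d6590a5b10901e6ae6e982edf0f2404fd198156e89f790a650597faf4d2204ac513b5665185e13a39bf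1b2ca0b54feff3c6c6e93b8f666efb267b655d898163c8993a5a8bd5c7b94967f49584e9ab352d9488c170c0df58c4a479cc38035ea593582eca202ca9d744a749c05670eada14481e8eaed8457488e595c92e48f3d3f3721ee0ccfa6cac0d18625c4c83e11d4499bc3843ecc32b44657c5ea4a0406d368790e263457ebf801764ee58dad44f4b5faccaa46ed714bc92321452a7c479cd02e38aed31823fb657a4337171ae4931e60f4f6b8d586806de37ac5b5978263259b478094d0663c1dff4ec4dacc5ef7909e118c2120471cceda66d7cd89a7f587919a1c9183d376f1aaa68c25038327ce1f708ad6c1bbb1e350a8aa9f7b96490936f472d5b690d7490cc130c2703cf38f2ed1926537ca1652be14cca9152987c5a6b6a906a496ad7e4ec99b1032dc7e203b94e0889480f17b8d97918e29963b017ecedb7c714ee96ec72f79e387b2d9ae2e64fde5b6b52f9f835774312c7f81a319f1fcc0865b92c1776c1e4458d6a15a551be9569ecbb08255bfa8747b377b44a76af02892d6985e96e63946d8b7f1e4fd451f4d42f7f4896e9442addc16721b7feee723406256aae3f262cf4efb412d8cd4fd19df4e697495a2b4e16318c45e6af5a19320755fc5bc0edd2af0825c619146635bb388e0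fda7a5b6f177bbaa514bd8c707e132fa2f219fda139b7246ae9fa76f06543747efc798fdb99bbfcc2afdbc75a199eeffc5eacce6f32eba08bdb48a316ed24b382707571506a6bdd0c21ac79cd8d52a1e9d87a8b1f93fa8f200061301ce3e701f50989ac77e50c342b1bd5f1247e751214004fe073b3bc4c7393526ae694d456cb696b8abe84412c7a2735c4426a7d0e5eaf027ccdde99454312119b9036f8fca869e4a2c32ff4e5819e48d25afe93d7db42a69e412e690658fe69546f9733c22bf7bc76365fd39b6cf680a2180471ae4ffda6cd2377b2e1a39f8142255f6c899abdf0e35f19399a2addd267ef4448caebfcaa1dcb55bb93d8f9e769a1122e87bab0ec8f120e80cc8f0ea5b9a04d052fa1fc0c3f82c5bd82adc684f9fb6014b9ecb801573847f3cc5f6df9d5acbda95e35428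

/-- the test for number `i` -/
def tstF (i : ℕ) : Bool :=
  tst 3 2 (dg 3 i 0) (dg 3 i 1) (dg 3 i 2) (dg 3 i 3) (dg 3 i 4) (dg 3 i 5) (dg 3 (T3F / (3 ^ 18) ^ i % 3 ^ 18)) &&
    ty 3 2 0 2 (dg 3 (T3F / (3 ^ 18) ^ i % 3 ^ 18))

theorem allF : (List.range 729).all tstF = true := by decide +kernel

section

variable {K : Type*} [Field K]

/-- the type of an element -/
def Fit (s r : K) (A : Matrix (Fin 3) (Fin 3) K) : Prop := (tr3 A = s ∧ ms3 A = r) ∨ (tr3 A = r ∧ ms3 A = s)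

theorem Fit.charpoly {s r : K} {A B : SpecialLinearGroup (Fin 3) K} (hA : Fit s r A.1) (hB : Fit s r B.1) :
    B.1.charpoly = A.1.charpoly ∨ B.1.charpoly = (A⁻¹).1.charpoly := by
  have h1 : B.1.charpoly = X ^ 3 - C (tr3 B.1) * X ^ 2 + C (ms3 B.1) * X - C 1 := by
    rw [charpoly3, B.2]
  have h2 : A.1.charpoly = X ^ 3 - C (tr3 A.1) * X ^ 2 + C (ms3 A.1) * X - C 1 := by
    rw [charpoly3, A.2]
  have h3 := charpoly_inv3 A
  rcases hA with ⟨a1, a2⟩ | ⟨a1, a2⟩ <;> rcases hB with ⟨b1, b2⟩ | ⟨b1, b2⟩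
  · left; rw [h1, h2, a1, a2, b1, b2]
  · right; rw [h1, h3, a1, a2, b1, b2]
  · right; rw [h1, h3, a1, a2, b1, b2]
  · left; rw [h1, h2, a1, a2, b1, b2]

variable {p : ℕ} [CharP K p]

theorem soundF {m a b c x y z s r : ℕ} (hm : (m : K) = -1)
    (hall : ∀ k : K, ∃ n < p, (n : K) = k) {e : ℕ → ℕ} (h : tst p m a b c x y z e = true) (ht : ty p m s r e = true) :
    ∃ A B : SpecialLinearGroup (Fin 3) K,
      A.1 * B.1 = !![1, (x : K), (y : K); (a : K), a * x + 1, a * y + z; (b : K), b * x + c, b * y + c * z + 1] ∧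
      Irreducible A.1.charpoly ∧ Fit (s : K) r A.1 ∧ Fit (s : K) r B.1 := by
  simp only [ty, Bool.and_eq_true, Bool.or_eq_true, beq_iff_eq] at ht
  simp only [tst, Bool.and_eq_true, Bool.or_eq_true, beq_iff_eq, bne_iff_ne, List.all_eq_true, List.mem_range] at h
  obtain ⟨⟨⟨⟨⟨⟨⟨⟨⟨⟨⟨⟨⟨h00, h01⟩, h02⟩, h10⟩, h11⟩, h12⟩, h20⟩, h21⟩, h22⟩, hdA⟩, hdB⟩, hrA⟩, hrB⟩, hty⟩ := h
  have dA : (mt K e).det = 1 := by
    have := cast_eq (K := K) hdA
    push_cast at this
    rw [hm] at this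
    rw [Matrix.det_fin_three]
    simp only [Cfsg.Agent.H374.Ore.Sl3.mt]
    norm_num
    linear_combination this
  have dB : (mt K fun n => e (9 + n)).det = 1 := by
    have := cast_eq (K := K) hdB
    push_cast at this
    rw [hm] at this
    rw [Matrix.det_fin_three]
    simp only [Cfsg.Agent.H374.Ore.Sl3.mt]
    norm_num
    linear_combination this
  have i1 := irr_mt (p := p) hm hall dA hrA
  have g00 := cast_eq (K := K) h00
  have g01 := cast_eq (K := K) h01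
  have g02 := cast_eq (K := K) h02
  have g10 := cast_eq (K := K) h10
  have g11 := cast_eq (K := K) h11
  have g12 := cast_eq (K := K) h12
  have g20 := cast_eq (K := K) h20
  have g21 := cast_eq (K := K) h21
  have g22 := cast_eq (K := K) h22
  push_cast at g00 g01 g02 g10 g11 g12 g20 g21 g22
  have hmul := mul_mt e (fun n => e (9 + n)) g00 g01 g02 g10 g11 g12 g20 g21 g22
  have hA : Fit (s : K) r (mt K e) := by
    unfold Fit
    rw [tr3_mt, ms3_mt hm]
    rcases ht with ⟨h1, h2⟩ | ⟨h1, h2⟩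
    · exact Or.inl ⟨cast_eq (K := K) h1, cast_eq (K := K) h2⟩
    · exact Or.inr ⟨cast_eq (K := K) h1, cast_eq (K := K) h2⟩
  refine ⟨⟨mt K e, dA⟩, ⟨mt K fun n => e (9 + n), dB⟩, hmul, i1, hA, ?_⟩
  rcases hty with ⟨h1, h2⟩ | ⟨h1, h2⟩
  · have g1 : tr3 (mt K fun n => e (9 + n)) = tr3 (mt K e) := by
      rw [tr3_mt, tr3_mt]
      exact cast_eq (K := K) h1
    have g2 : ms3 (mt K fun n => e (9 + n)) = ms3 (mt K e) := by
      rw [ms3_mt hm, ms3_mt hm]
      exact cast_eq (K := K) h2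
    unfold Fit
    rw [g1, g2]
    exact hA
  · have g1 : tr3 (mt K fun n => e (9 + n)) = ms3 (mt K e) := by
      rw [tr3_mt, ms3_mt hm]
      exact cast_eq (K := K) h1
    have g2 : ms3 (mt K fun n => e (9 + n)) = tr3 (mt K e) := by
      rw [ms3_mt hm, tr3_mt]
      exact cast_eq (K := K) h2
    unfold Fit
    rw [g1, g2]
    rcases hA with ⟨a1, a2⟩ | ⟨a1, a2⟩
    · exact Or.inr ⟨a2, a1⟩
    · exact Or.inl ⟨a2, a1⟩

end

/-- the type in `SL_3(3)` -/
theorem fit_three {K : Type*} [Field K] [Finite K] (hK : Nat.card K = 3) {L U : SpecialLinearGroup (Fin 3) K}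
    (hL : L ∈ LT 3 K) (hU : U ∈ UT 3 K) : ∃ A B : SpecialLinearGroup (Fin 3) K, L * U = A * B ∧
      Irreducible A.1.charpoly ∧ Fit (0 : K) 2 A.1 ∧ Fit (0 : K) 2 B.1 := by
  have : Fact (Nat.Prime 3) := ⟨Nat.prime_three⟩
  obtain ⟨hch, hall⟩ := exists_cast hK
  have hm : ((2 : ℕ) : K) = -1 := by
    have h3 : ((3 : ℕ) : K) = 0 := CharP.cast_eq_zero K 3
    push_cast at h3 ⊢
    linear_combination h3
  obtain ⟨a, ha, ea⟩ := hall (L.1 1 0)
  obtain ⟨b, hb, eb⟩ := hall (L.1 2 0)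
  obtain ⟨c, hc, ec⟩ := hall (L.1 2 1)
  obtain ⟨x, hx, ex⟩ := hall (U.1 0 1)
  obtain ⟨y, hy, ey⟩ := hall (U.1 0 2)
  obtain ⟨z, hz, ez⟩ := hall (U.1 1 2)
  obtain ⟨i, hi, h0, h1, h2, h3, h4, h5⟩ := enc (Or.inr rfl) ha hb hc hx hy hz
  have h := allF
  rw [List.all_eq_true] at h
  have h6 := h i (List.mem_range.2 (by norm_num at hi; exact hi))
  rw [tstF, h0, h1, h2, h3, h4, h5, Bool.and_eq_true] at h6
  obtain ⟨A, B, h7, h8, h9, h10⟩ := soundF (K := K) (p := 3) hm hall h6.1 h6.2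
  refine ⟨A, B, Subtype.ext ?_, h8, by exact_mod_cast h9, by exact_mod_cast h10⟩
  rw [mul_LU hL hU, ← ea, ← eb, ← ec, ← ex, ← ey, ← ez]
  exact h7.symm

theorem fc_three {K : Type*} [Field K] [Finite K] (hK : Nat.card K = 3) : FC K := by
  obtain ⟨A₀, B₀, -, h1, h2, -⟩ := fit_three hK (one_mem (LT 3 K)) (one_mem (UT 3 K))
  refine ⟨A₀, h1, fun L hL U hU => ?_⟩
  obtain ⟨A, B, e, -, g1, g2⟩ := fit_three hK hL hU
  exact ⟨A, B, e, h2.charpoly g1, h2.charpoly g2⟩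

theorem fit_two {K : Type*} [Field K] [Finite K] (hK : Nat.card K = 2) {A : SpecialLinearGroup (Fin 3) K}
    (h : Irreducible A.1.charpoly) : Fit (1 : K) 0 A.1 := by
  have : Fact (Nat.Prime 2) := ⟨Nat.prime_two⟩
  obtain ⟨hch, hall⟩ := exists_cast hK
  have hd : A.1.charpoly.natDegree = 3 := by
    rw [Matrix.charpoly_natDegree_eq_dim, Fintype.card_fin]
  have h1 : A.1.charpoly.eval 1 ≠ 0 := by
    intro h0
    have h2 := Polynomial.degree_eq_one_of_irreducible_of_root h (x := 1) h0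
    have h3 := Polynomial.natDegree_eq_of_degree_eq_some h2
    rw [hd] at h3
    norm_num at h3
  rw [charpoly3, A.2] at h1
  simp only [eval_sub, eval_add, eval_mul, eval_pow, eval_X, eval_C] at h1
  have h01 : ∀ k : K, k = 0 ∨ k = 1 := by
    intro k
    obtain ⟨n, hn, rfl⟩ := hall k
    interval_cases n
    · left; simp
    · right; simp
  rcases h01 (tr3 A.1) with ht | ht <;> rcases h01 (ms3 A.1) with hs | hs
  · exfalso; apply h1; rw [ht, hs]; ring
  · exact Or.inr ⟨ht, hs⟩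
  · exact Or.inl ⟨ht, hs⟩
  · exfalso; apply h1; rw [ht, hs]; ring

theorem fc_two {K : Type*} [Field K] [Finite K] (hK : Nat.card K = 2) : FC K := by
  obtain ⟨A₀, B₀, -, h1, -⟩ := m3 (Or.inl hK) (one_mem (LT 3 K)) (one_mem (UT 3 K))
  refine ⟨A₀, h1, fun L hL U hU => ?_⟩
  obtain ⟨A, B, e, g1, g2, -⟩ := m3 (Or.inl hK) hL hU
  exact ⟨A, B, e, (fit_two hK h1).charpoly (fit_two hK g1), (fit_two hK h1).charpoly (fit_two hK g2)⟩

theorem fc_small {K : Type*} [Field K] [Finite K] (hK : Nat.card K = 2 ∨ Nat.card K = 3) : FC K := by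
  rcases hK with h | h
  · exact fc_two h
  · exact fc_three h

end Cfsg.Agent.H928.TC.Sl3
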